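import Cfsg.Agent.A9S.A
import Cfsg.Agent.S8R.QC2a

/-! The frame `F9` from the 3-local hypothesis: `F9.mk9`. (helper28) -/

set_option autoImplicit false

namespace Cfsg.Agent.A9S

open Equiv Subgroup Cfsg.Agent.BG

variable {G : Type*} [Group G] [Finite G] {φ : A9 →* G}

theorem mk_c9 (j : A9) (hj : orderOf j = 2) : ¬ 9 ∣ Nat.card (centralizer ({j} : Set A9)) := fun d => by
  rw [S8R.qc_card] at d
  have d := d.trans (card_subgroup_dvd_card _)
  have h1 : orderOf j.1 = 2 := by rw [Subgroup.orderOf_coe, hj]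
  obtain ⟨n, hn⟩ := Perm.cycleType_prime_order (h1 ▸ Nat.prime_two)
  have h2 := Perm.sum_cycleType j.1
  have h3 := Perm.sign_of_cycleType j.1
  have h4 : j.1.support.card ≤ 9 := (Finset.card_le_univ _).trans (by simp)
  rw [Perm.nat_card_centralizer, hn, h1] at d
  rw [hn, Multiset.sum_replicate, h1, smul_eq_mul] at h2 h3
  rw [Perm.mem_alternatingGroup.1 j.2, Multiset.card_replicate] at h3
  have h5 : n = 0 ∨ n = 1 ∨ n = 2 ∨ n = 3 := by omega
  rcases h5 with rfl | rfl | rfl | rfl
  · exact absurd h3 (by decide)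
  · exact absurd d (by decide +kernel)
  · exact absurd h3 (by decide)
  · exact absurd d (by decide +kernel)

theorem mk_c4 : ¬ 4 ∣ Nat.card (centralizer ({pz * py} : Set A9)) := by
  rw [S8R.qc_card]
  have c := (A9.subgroupOf (centralizer ({(pz * py).1} : Set (Perm (Fin 9))))).card_mul_index
  have d : (A9.subgroupOf (centralizer ({(pz * py).1} : Set (Perm (Fin 9))))).index ∣ 2 :=
    alternatingGroup.index_eq_two (α := Fin 9) ▸ relIndex_dvd_index_of_normal A9 _
  have m : swap 6 7 ∈ centralizer ({(pz * py).1} : Set (Perm (Fin 9))) :=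
    mem_centralizer_singleton_iff.2 (by decide +kernel)
  have e : Nat.card (centralizer ({(pz * py).1} : Set (Perm (Fin 9)))) = 108 := by
    rw [Perm.nat_card_centralizer, show (pz * py).1.cycleType = {3, 3} by decide +kernel]; decide +kernel
  rcases (Nat.dvd_prime Nat.prime_two).1 d with a | a
  · have k : swap (6 : Fin 9) 7 ∈ A9 := (index_eq_one.1 a).ge (mem_top ⟨_, m⟩)
    exact absurd (Perm.mem_alternatingGroup.1 k) (by decide +kernel)
  · rw [a, e] at c
    omega

omit [Finite G] in
theorem mk_le (inj : Function.Injective φ) {x : A9} {R : Subgroup G} (h1 : R ≤ φ.range)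
    (h2 : R ≤ centralizer ({φ x} : Set G)) : Nat.card R ∣ Nat.card (centralizer ({x} : Set A9)) := by
  rw [← card_map_of_injective (K := centralizer ({x} : Set A9)) inj]
  refine card_dvd_of_le fun g hg => ?_
  obtain ⟨y, rfl⟩ := h1 hg
  exact ⟨y, mem_centralizer_singleton_iff.2 (inj (by
    rw [map_mul, map_mul]; exact mem_centralizer_singleton_iff.1 (h2 hg))), rfl⟩

theorem F9.mk9 (inj : Function.Injective φ)
    (n3 : ∀ x : A9, orderOf x = 3 → ∀ g : G, g * φ x * g⁻¹ ∈ zpowers (φ x) → g ∈ φ.range) : F9 φ := by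
  have := Fact.mk Nat.prime_three
  have c3 : ∀ u ∈ φ.range, orderOf u = 3 → ∀ g : G, g * u = u * g → g ∈ φ.range := by
    rintro _ ⟨x, rfl⟩ o g e
    exact n3 x (by rwa [orderOf_injective φ inj] at o) g (by rw [e, mul_inv_cancel_right]; exact mem_zpowers _)
  have oz : orderOf (φ pz) = 3 := by
    rw [orderOf_injective φ inj]; exact orderOf_eq_prime (by decide +kernel) (by decide +kernel)
  have oy : orderOf (φ (pz * py)) = 3 := by
    rw [orderOf_injective φ inj]; exact orderOf_eq_prime (by decide +kernel) (by decide +kernel)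
  have ov : orderOf (φ pv) = 2 := by
    rw [orderOf_injective φ inj]; exact orderOf_eq_prime (by decide +kernel) (by decide +kernel)
  obtain ⟨P, hP⟩ := (IsPGroup.of_card (p := 3) (n := 1) (G := zpowers (φ pz))
    (by rw [Nat.card_zpowers, oz, pow_one])).exists_le_sylow
  have zP : φ pz ∈ (P : Subgroup G) := hP (mem_zpowers _)
  have PR : (P : Subgroup G) ≤ φ.range := by
    have : Nontrivial P := ⟨⟨⟨_, zP⟩, 1, fun e => by
      rw [show φ pz = 1 from congrArg Subtype.val e, orderOf_one] at oz; exact absurd oz (by decide)⟩⟩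
    have := P.2.center_nontrivial
    obtain ⟨n, n0, hn⟩ := (P.2.to_subgroup (center P)).nontrivial_iff_card.1 this
    obtain ⟨u, hu⟩ := exists_prime_orderOf_dvd_card' (G := center P) 3 (hn ▸ dvd_pow_self 3 n0.ne')
    have cu : ∀ g ∈ (P : Subgroup G), g * u.1.1 = u.1.1 * g := fun g hg =>
      congrArg Subtype.val (mem_center_iff.1 u.2 ⟨g, hg⟩)
    exact fun g hg => c3 _ (c3 _ ⟨pz, rfl⟩ oz _ (cu _ zP).symm)
      (by rw [Subgroup.orderOf_coe, Subgroup.orderOf_coe, hu]) g (cu g hg)
  have h9 : ∀ i : G, orderOf i = 2 → ¬ 9 ∣ Nat.card (centralizer ({i} : Set G)) := fun i o d => by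
    obtain ⟨R0, hR0⟩ := Sylow.exists_subgroup_card_pow_prime 3 (n := 2) d
    have cR : Nat.card (R0.map (centralizer ({i} : Set G)).subtype) = 3 ^ 2 := by
      rw [card_map_of_injective (subtype_injective _), hR0]
    obtain ⟨g, -, hg⟩ := Sylow_Jsub (sylowIn_top P) le_top (IsPGroup.of_card cR)
    have hC : cj g (R0.map (centralizer ({i} : Set G)).subtype) ≤ centralizer ({g * i * g⁻¹} : Set G) := by
      rw [C1_conj]; exact cj_mono g (map_subtype_le _)
    have c9 : Nat.card (cj g (R0.map (centralizer ({i} : Set G)).subtype)) = 9 := by rw [card_cj, cR]; rfl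
    obtain ⟨r, hr⟩ := exists_prime_orderOf_dvd_card' (G := cj g (R0.map (centralizer ({i} : Set G)).subtype)) 3
      (by rw [c9]; decide)
    obtain ⟨j, hj⟩ := c3 r.1 (PR (hg r.2)) (by rw [Subgroup.orderOf_coe, hr]) _ (mem_cent1.1 (hC r.2)).symm
    rw [← hj] at hC
    have k := mk_le inj (hg.trans PR) hC
    rw [c9] at k
    refine mk_c9 j ?_ k
    rw [← orderOf_injective φ inj, hj, ← o]
    exact (MulAut.conj g).orderOf_eq i
  refine ⟨inj, n3, h9, A8R.nc oz oy ov (Commute.map (show pz * pv = pv * pz by decide +kernel) φ)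
    (Commute.map (show pz * py * pt = pt * (pz * py) by decide +kernel) φ) h9 ?_ fun d => mk_c4 (d.trans
      (mk_le inj (fun g hg => c3 _ ⟨_, rfl⟩ oy g (mem_centralizer_singleton_iff.1 hg)) le_rfl))⟩
  have m : ∀ l : A9, l * pz = pz * l → φ l ∈ centralizer ({φ pz} : Set G) := fun l hl => by
    rw [mem_centralizer_singleton_iff, ← map_mul, ← map_mul, hl]
  refine A8R.pg_four (e := (⟨φ pv, m pv (by decide +kernel)⟩ : centralizer ({φ pz} : Set G)))
    (f := ⟨φ pv2, m _ (by decide +kernel)⟩) (Subtype.ext ?_) (Subtype.ext ?_) (Subtype.ext ?_) (fun e => ?_)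
    (fun e => ?_) (fun e => ?_)
  · change φ pv * φ pv = 1
    rw [← map_mul, show pv * pv = 1 by decide +kernel, map_one]
  · change φ pv2 * φ pv2 = 1
    rw [← map_mul, show pv2 * pv2 = 1 by decide +kernel, map_one]
  · change φ pv2 * φ pv = φ pv * φ pv2
    rw [← map_mul, ← map_mul, show pv2 * pv = pv * pv2 by decide +kernel]
  · have e' : φ pv = φ 1 := by rw [map_one]; exact congrArg Subtype.val e
    exact absurd (inj e') (by decide +kernel)
  · have e' : φ pv2 = φ 1 := by rw [map_one]; exact congrArg Subtype.val e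
    exact absurd (inj e') (by decide +kernel)
  · have e' : φ pv = φ pv2 := congrArg Subtype.val e
    exact absurd (inj e') (by decide +kernel)

end Cfsg.Agent.A9S
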