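import Cfsg.Agent.A9S.A

set_option autoImplicit false

namespace Cfsg.Agent.A9S

open Equiv Subgroup

variable {G : Type*} [Group G] [Finite G]

theorem pe2x_supp (cls : ∀ i : A9, orderOf i = 2 → (fp i ∧ IsConj i pv) ∨ (¬ fp i ∧ IsConj i pt))
    (k : A9) (hk : orderOf k = 2) (hf : fp k) : k.1.support.card = 4 := by
  rcases cls k hk with ⟨_, c⟩ | ⟨n, _⟩
  · obtain ⟨c, hc⟩ := isConj_iff.1 c
    have h1 : c.1 * k.1 * c.1⁻¹ = pv.1 := congrArg Subtype.val hc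
    have h2 := Perm.card_support_conj (σ := c.1) (τ := k.1)
    rw [h1] at h2
    rw [← h2]
    decide +kernel
  · exact absurd hf n

theorem pe2x_four (k : Perm (Fin 9)) (hk : k.support.card = 4) (s : Finset (Fin 9))
    (hs : 4 ≤ s.card) (h : ∀ x ∈ s, k x ≠ x) : ∀ x, x ∉ s → k x = x := by
  have : s = k.support :=
    Finset.eq_of_subset_of_card_le (fun x hx => Perm.mem_support.2 (h x hx)) (by omega)
  intro x hx
  by_contra hne
  exact hx (this ▸ Perm.mem_support.2 hne)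

theorem pe2x_f3 : ∀ a3 : Fin 9, a3 ≠ 3 → ∀ a4 : Fin 9, a4 ≠ 4 → ∀ a5 : Fin 9, a5 ≠ 5 →
    ∀ a6 : Fin 9, a6 ≠ 6 →
    (∀ x, (![0, 1, 2, a3, a4, a5, a6, 7, 8] : Fin 9 → Fin 9)
      ((![0, 1, 2, a3, a4, a5, a6, 7, 8] : Fin 9 → Fin 9) x) = x) →
    (∀ x, (![0, 1, 2, a3, a4, a5, a6, 7, 8] : Fin 9 → Fin 9) x = pv.1 x) ∨
    (∀ x, (![0, 1, 2, a3, a4, a5, a6, 7, 8] : Fin 9 → Fin 9) x = pv2.1 x) ∨
    (∀ x, (![0, 1, 2, a3, a4, a5, a6, 7, 8] : Fin 9 → Fin 9) x = (pv * pv2).1 x) := by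
  decide +kernel

theorem pe2x_mem (cls : ∀ i : A9, orderOf i = 2 → (fp i ∧ IsConj i pv) ∨ (¬ fp i ∧ IsConj i pt))
    {j k : A9} (hj : orderOf j = 2) (hk : orderOf k = 2) (fj : fp j) (fk : fp k)
    (n1 : ¬ fp (pv * k)) (n2 : ¬ fp (j * k)) (cm : j * pv = pv * j) :
    j ∈ closure ({pv, pv2} : Set A9) := by
  have k1 : ∀ x ∈ ({3, 4, 5, 6} : Finset (Fin 9)), k.1 x = x := by
    have pf : ∀ x ∈ ({0, 1, 2, 7, 8} : Finset (Fin 9)), pv.1 x = x := by decide +kernel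
    have cB : (({0, 1, 2, 7, 8} : Finset (Fin 9)).filter fun x => ¬ k.1 x ≠ x).card ≤ 1 := by
      refine Finset.card_le_one.2 fun a ha b hb => ?_
      by_contra ne
      rw [Finset.mem_filter, not_not] at ha hb
      refine n1 ⟨a, b, ne, ?_, ?_⟩
      · show pv.1 (k.1 a) = a
        rw [ha.2, pf a ha.1]
      · show pv.1 (k.1 b) = b
        rw [hb.2, pf b hb.1]
    have c5 := Finset.card_filter_add_card_filter_not (s := ({0, 1, 2, 7, 8} : Finset (Fin 9)))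
      (fun x => k.1 x ≠ x)
    have c6 : ({0, 1, 2, 7, 8} : Finset (Fin 9)).card = 5 := by decide
    intro x hx
    refine pe2x_four k.1 (pe2x_supp cls k hk fk)
      (({0, 1, 2, 7, 8} : Finset (Fin 9)).filter fun x => k.1 x ≠ x) (by omega)
      (fun y hy => (Finset.mem_filter.1 hy).2) x fun m => ?_
    have : ∀ x ∈ ({3, 4, 5, 6} : Finset (Fin 9)), x ∉ ({0, 1, 2, 7, 8} : Finset (Fin 9)) := by decide
    exact this x hx (Finset.mem_filter.1 m).1
  have j0 : ∀ x ∈ ({3, 4, 5, 6} : Finset (Fin 9)), j.1 x ≠ x := by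
    intro x hx e
    have hp : ∀ x ∈ ({3, 4, 5, 6} : Finset (Fin 9)),
      x ≠ pv.1 x ∧ pv.1 x ∈ ({3, 4, 5, 6} : Finset (Fin 9)) := by decide +kernel
    have e2 : j.1 (pv.1 x) = pv.1 (j.1 x) := congrArg (fun s : A9 => s.1 x) cm
    refine n2 ⟨x, pv.1 x, (hp x hx).1, ?_, ?_⟩
    · show j.1 (k.1 x) = x
      rw [k1 x hx, e]
    · show j.1 (k.1 (pv.1 x)) = pv.1 x
      rw [k1 _ (hp x hx).2, e2, e]
  have j1 := pe2x_four j.1 (pe2x_supp cls j hj fj) _ (by decide) j0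
  have e : ∀ x, (![0, 1, 2, j.1 3, j.1 4, j.1 5, j.1 6, 7, 8] : Fin 9 → Fin 9) x = j.1 x := by
    intro x
    fin_cases x
    · exact (j1 0 (by decide)).symm
    · exact (j1 1 (by decide)).symm
    · exact (j1 2 (by decide)).symm
    · rfl
    · rfl
    · rfl
    · rfl
    · exact (j1 7 (by decide)).symm
    · exact (j1 8 (by decide)).symm
  have jj : j * j = 1 := by rw [← pow_two, ← hj, pow_orderOf_eq_one]
  have m1 : pv ∈ closure ({pv, pv2} : Set A9) := subset_closure (by simp)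
  have m2 : pv2 ∈ closure ({pv, pv2} : Set A9) := subset_closure (by simp)
  rcases pe2x_f3 _ (j0 3 (by decide)) _ (j0 4 (by decide)) _ (j0 5 (by decide)) _
    (j0 6 (by decide)) (fun x => by
      rw [e, e]
      exact congrArg (fun s : A9 => s.1 x) jj) with h | h | h
  · have : j = pv := Subtype.ext (Equiv.ext fun x => by rw [← e, h])
    exact this ▸ m1
  · have : j = pv2 := Subtype.ext (Equiv.ext fun x => by rw [← e, h])
    exact this ▸ m2
  · have : j = pv * pv2 := Subtype.ext (Equiv.ext fun x => by rw [← e, h])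
    exact this ▸ mul_mem m1 m2

theorem pe2x_ord (x : A9) (h1 : x * x = 1) (h2 : x ≠ 1) : orderOf x = 2 :=
  haveI : Fact (Nat.Prime 2) := ⟨Nat.prime_two⟩
  orderOf_eq_prime (by rw [pow_two, h1]) h2

theorem F9.pe2x_tr {φ : A9 →* G} (h : F9 φ)
    (nf : ∀ i j : A9, orderOf i = 2 → orderOf j = 2 → IsConj (φ i) (φ j) → (fp i ↔ fp j))
    {g : G} {x i : A9} (hx : orderOf x = 2)
    (e : φ i = g * φ x * g⁻¹) : orderOf i = 2 ∧ (fp x ↔ fp i) := by
  have o : orderOf i = 2 := by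
    rw [← orderOf_injective φ h.inj i, e, ← hx, ← orderOf_injective φ h.inj x]
    exact (SemiconjBy.orderOf_eq g (by simp [SemiconjBy])).symm
  exact ⟨o, nf _ _ hx o (isConj_iff.2 ⟨g, e.symm⟩)⟩

theorem F9.pe2x_key {φ : A9 →* G} (h : F9 φ)
    (cls : ∀ i : A9, orderOf i = 2 → (fp i ∧ IsConj i pv) ∨ (¬ fp i ∧ IsConj i pt))
    (nf : ∀ i j : A9, orderOf i = 2 → orderOf j = 2 → IsConj (φ i) (φ j) → (fp i ↔ fp j))
    (nV : ∀ g, g * φ pv * g⁻¹ ∈ (closure {pv, pv2}).map φ →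
      g * φ pv2 * g⁻¹ ∈ (closure {pv, pv2}).map φ → g ∈ φ.range)
    (g : G) (h1 : g * φ pv * g⁻¹ ∈ φ.range) (h2 : g * φ pv2 * g⁻¹ ∈ φ.range)
    (h3 : g * φ pw * g⁻¹ ∈ φ.range) : g ∈ φ.range := by
  have o1 : orderOf pv = 2 := pe2x_ord _ (by decide +kernel) (by decide +kernel)
  have o2 : orderOf pv2 = 2 := pe2x_ord _ (by decide +kernel) (by decide +kernel)
  have o3 : orderOf pw = 2 := pe2x_ord _ (by decide +kernel) (by decide +kernel)
  have o4 : orderOf (pv * pw) = 2 := pe2x_ord _ (by decide +kernel) (by decide +kernel)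
  have o5 : orderOf (pv2 * pw) = 2 := pe2x_ord _ (by decide +kernel) (by decide +kernel)
  obtain ⟨i, hi⟩ := h1
  obtain ⟨j, hj⟩ := h2
  obtain ⟨k, hk⟩ := h3
  obtain ⟨oi, fi⟩ := h.pe2x_tr nf o1 hi
  have fi' : fp i := fi.1 (by decide +kernel)
  rcases cls i oi with ⟨_, c⟩ | ⟨n, _⟩
  swap
  · exact absurd fi' n
  obtain ⟨c, hc⟩ := isConj_iff.1 c
  have e1 : φ pv = (φ c * g) * φ pv * (φ c * g)⁻¹ := by
    conv_lhs => rw [← hc]
    simp only [map_mul, map_inv, hi]; group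
  have e2 : φ (c * j * c⁻¹) = (φ c * g) * φ pv2 * (φ c * g)⁻¹ := by
    simp only [map_mul, map_inv, hj]; group
  have e3 : φ (c * k * c⁻¹) = (φ c * g) * φ pw * (φ c * g)⁻¹ := by
    simp only [map_mul, map_inv, hk]; group
  have e4 : φ (pv * (c * k * c⁻¹)) = (φ c * g) * φ (pv * pw) * (φ c * g)⁻¹ := by
    rw [map_mul, e3]
    conv_lhs => rw [e1]
    simp only [map_mul]; group
  have e5 : φ (c * j * c⁻¹ * (c * k * c⁻¹)) = (φ c * g) * φ (pv2 * pw) * (φ c * g)⁻¹ := by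
    rw [map_mul, e3, e2]
    simp only [map_mul]; group
  have e6 : c * j * c⁻¹ * pv = pv * (c * j * c⁻¹) := by
    apply h.inj
    have q : pv2 * pv = pv * pv2 := by decide +kernel
    have q' : φ pv2 * φ pv = φ pv * φ pv2 := by rw [← map_mul, q, map_mul]
    rw [map_mul, map_mul φ pv, e2]
    generalize φ c * g = m at e1
    calc m * φ pv2 * m⁻¹ * φ pv = m * φ pv2 * m⁻¹ * (m * φ pv * m⁻¹) := by rw [← e1]
      _ = m * (φ pv2 * φ pv) * m⁻¹ := by group
      _ = (m * φ pv * m⁻¹) * (m * φ pv2 * m⁻¹) := by rw [q']; group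
      _ = φ pv * (m * φ pv2 * m⁻¹) := by rw [← e1]
  obtain ⟨oj, fj⟩ := h.pe2x_tr nf o2 e2
  obtain ⟨ok, fk⟩ := h.pe2x_tr nf o3 e3
  obtain ⟨-, f4⟩ := h.pe2x_tr nf o4 e4
  obtain ⟨-, f5⟩ := h.pe2x_tr nf o5 e5
  have m := pe2x_mem cls oj ok (fj.1 (by decide +kernel)) (fk.1 (by decide +kernel))
    (fun q => absurd (f4.2 q) (by decide +kernel)) (fun q => absurd (f5.2 q) (by decide +kernel)) e6
  have r := nV (φ c * g) (e1 ▸ ⟨pv, subset_closure (by simp), rfl⟩) (e2 ▸ ⟨_, m, rfl⟩)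
  have : g = (φ c)⁻¹ * (φ c * g) := by group
  rw [this]
  exact mul_mem (inv_mem ⟨c, rfl⟩) r

theorem pe2x_pg {K : Type*} [Group K] (S : Set K) (hc : ∀ x ∈ S, ∀ y ∈ S, x * y = y * x)
    (h2 : ∀ x ∈ S, x * x = 1) : IsPGroup 2 (closure S) := by
  have hc2 : ∀ y ∈ closure S, ∀ x ∈ closure S, x * y = y * x := fun y hy x hx => by
    have h1 : closure S ≤ centralizer S := (closure_le _).2 fun a ha b hb => hc b hb a ha
    have h2 : closure S ≤ centralizer {y} := (closure_le _).2 fun a ha b hb => by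
      rw [hb]; exact (h1 hy a ha).symm
    exact (h2 hx y rfl).symm
  have hm : ∀ x ∈ closure S, x * x = 1 := by
    intro x hx
    induction hx using closure_induction with
    | mem x hx => exact h2 x hx
    | one => exact mul_one 1
    | mul x y mx my hx hy =>
      calc x * y * (x * y) = x * (y * x) * y := by simp only [mul_assoc]
        _ = (x * x) * (y * y) := by rw [hc2 x mx y my]; simp only [mul_assoc]
        _ = 1 := by rw [hx, hy, mul_one]
    | inv x _ hx => rw [← mul_inv_rev, hx, inv_one]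
  exact fun x => ⟨1, Subtype.ext (by simpa [pow_two] using hm x.1 x.2)⟩

theorem pe2x_card : Nat.card A9 = 181440 := by
  have c3 := two_mul_nat_card_alternatingGroup (α := Fin 9)
  rw [Nat.card_perm, Nat.card_eq_fintype_card (α := Fin 9), Fintype.card_fin] at c3
  have : Nat.factorial 9 = 362880 := by decide
  change 2 * Nat.card A9 = _ at c3
  omega

theorem F9.syl_of {φ : A9 →* G} (h : F9 φ)
    (cls : ∀ i : A9, orderOf i = 2 → (fp i ∧ IsConj i pv) ∨ (¬ fp i ∧ IsConj i pt))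
    (nf : ∀ i j : A9, orderOf i = 2 → orderOf j = 2 → IsConj (φ i) (φ j) → (fp i ↔ fp j))
    (nV : ∀ g, g * φ pv * g⁻¹ ∈ (closure {pv, pv2}).map φ →
      g * φ pv2 * g⁻¹ ∈ (closure {pv, pv2}).map φ → g ∈ φ.range) : ¬ 128 ∣ Nat.card G := by
  haveI : Fact (Nat.Prime 2) := ⟨Nat.prime_two⟩
  intro hd
  have hE : IsPGroup 2 (closure ({pv, pv2, pw} : Set A9)) := by
    refine pe2x_pg _ ?_ ?_
    · rintro x (rfl | rfl | rfl) y (rfl | rfl | rfl) <;> decide +kernel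
    · rintro x (rfl | rfl | rfl) <;> decide +kernel
  obtain ⟨P, hP⟩ := (hE.map φ).exists_le_sylow
  have mP : ∀ x ∈ ({pv, pv2, pw} : Set A9), φ x ∈ (P : Subgroup G) :=
    fun x hx => hP ⟨x, subset_closure hx, rfl⟩
  have hle : (P : Subgroup G) ≤ φ.range := by
    by_contra hn
    haveI : Group.IsNilpotent P := P.2.isNilpotent
    have hlt : φ.range.subgroupOf P < ⊤ := by
      rw [lt_top_iff_ne_top, Ne, subgroupOf_eq_top]
      exact hn
    obtain ⟨g, hg, hg'⟩ := SetLike.exists_of_lt (normalizerCondition_of_isNilpotent _ hlt)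
    have k : ∀ x ∈ ({pv, pv2, pw} : Set A9), g.1 * φ x * g.1⁻¹ ∈ φ.range := fun x hx =>
      (mem_normalizer_iff.1 hg ⟨φ x, mP x hx⟩).1 ⟨x, rfl⟩
    exact hg' (h.pe2x_key cls nf nV g.1 (k _ (by simp)) (k _ (by simp)) (k _ (by simp)))
  have c1 : 2 ^ 7 ∣ Nat.card P := P.pow_dvd_card_of_pow_dvd_card (by simpa using hd)
  have c2 := c1.trans (card_dvd_of_le hle)
  rw [← Nat.card_congr (MonoidHom.ofInjective h.inj).toEquiv, pe2x_card] at c2
  norm_num at c2

end Cfsg.Agent.A9S
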